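import Mathlib

/-!
# Partition stabilizers in symmetric groups

The stabilizer of a partition given by the fibres of `f : Ω → Fin b`.
-/

set_option autoImplicit false
set_option linter.unusedSectionVars false

open Equiv

namespace Cfsg.Agent.Lib.PermWreath.Basic

variable {Ω : Type*} [Fintype Ω] [DecidableEq Ω] {a b : ℕ}

/-- The stabilizer of the partition given by the fibres of `f`. -/
def pstab (f : Ω → Fin b) : Subgroup (Perm Ω) where
  carrier := {g | ∀ x y : Ω, f x = f y ↔ f (g x) = f (g y)}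
  mul_mem' := by
    intro g h hg hh x y
    rw [hh x y, hg (h x) (h y)]
    rfl
  one_mem' := by
    intro x y
    rfl
  inv_mem' := by
    intro g hg x y
    rw [hg (g⁻¹ x) (g⁻¹ y)]
    simp

theorem mem_pstab (f : Ω → Fin b) (g : Perm Ω) :
    g ∈ pstab f ↔ ∀ x y : Ω, f x = f y ↔ f (g x) = f (g y) := Iff.rfl

theorem closure_eq (f : Ω → Fin b) :
    Subgroup.closure {g : Perm Ω | ∀ x y : Ω, f x = f y ↔ f (g x) = f (g y)} = pstab f :=
  Subgroup.closure_eq (pstab f)

/-- Coordinates for the partition. -/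
theorem exists_coords (f : Ω → Fin b) (hf : ∀ i : Fin b, Nat.card {x : Ω // f x = i} = a) :
    ∃ e : Ω ≃ Fin b × Fin a, ∀ x, (e x).1 = f x := by
  classical
  have hfib : ∀ i : Fin b, Nonempty ({x : Ω // f x = i} ≃ Fin a) :=
    fun i => ⟨Finite.equivFinOfCardEq (hf i)⟩
  let φ : ∀ i : Fin b, {x : Ω // f x = i} ≃ Fin a := fun i => (hfib i).some
  refine ⟨(Equiv.sigmaFiberEquiv f).symm.trans
    ((Equiv.sigmaCongrRight φ).trans (Equiv.sigmaEquivProd _ _)), fun x => ?_⟩
  simp [Equiv.sigmaFiberEquiv]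

/-- The permutation of `Ω` induced by a permutation of the blocks in coordinates `e`. -/
def blockPerm (e : Ω ≃ Fin b × Fin a) (σ : Perm (Fin b)) : Perm Ω :=
  (e.trans (Equiv.prodCongr σ (Equiv.refl _))).trans e.symm

theorem blockPerm_fst {f : Ω → Fin b} {e : Ω ≃ Fin b × Fin a} (he : ∀ x, (e x).1 = f x)
    (σ : Perm (Fin b)) (x : Ω) : f (blockPerm e σ x) = σ (f x) := by
  rw [← he, ← he]
  simp [blockPerm]

theorem blockPerm_mem {f : Ω → Fin b} {e : Ω ≃ Fin b × Fin a} (he : ∀ x, (e x).1 = f x)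
    (σ : Perm (Fin b)) : blockPerm e σ ∈ pstab f := by
  intro x y
  rw [blockPerm_fst he, blockPerm_fst he]
  simp

theorem swap_mem {f : Ω → Fin b} {x y : Ω} (h : f x = f y) : swap x y ∈ pstab f := by
  intro u v
  have hu : f (swap x y u) = f u := by
    by_cases h1 : u = x
    · subst h1; simp [h]
    by_cases h2 : u = y
    · subst h2; simp [h]
    rw [swap_apply_of_ne_of_ne h1 h2]
  have hv : f (swap x y v) = f v := by
    by_cases h1 : v = x
    · subst h1; simp [h]
    by_cases h2 : v = y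
    · subst h2; simp [h]
    rw [swap_apply_of_ne_of_ne h1 h2]
  rw [hu, hv]

/-- A permutation of `Fin b` carrying a given ordered pair of distinct points to another one. -/
theorem exists_perm_pair {i j i' j' : Fin b} (hij : i ≠ j) (hij' : i' ≠ j') :
    ∃ σ : Perm (Fin b), σ i = i' ∧ σ j = j' := by
  refine ⟨swap (swap i i' j) j' * swap i i', ?_, ?_⟩
  · have h1 : swap i i' j ≠ i' := by
      intro h
      have : swap i i' j = swap i i' i := by simpa using h
      exact hij ((swap i i').injective this).symm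
    simp only [Perm.mul_apply, swap_apply_left]
    rw [swap_apply_of_ne_of_ne h1.symm hij']
  · simp

/-- If a group contains `pstab f` and a transposition joining two blocks, it is everything. -/
theorem eq_top_of_swap_mem (f : Ω → Fin b) (hf : ∀ i : Fin b, Nat.card {x : Ω // f x = i} = a)
    (K : Subgroup (Perm Ω)) (hK : pstab f ≤ K) {x₀ y₀ : Ω} (hxy : f x₀ ≠ f y₀)
    (hs : swap x₀ y₀ ∈ K) : K = ⊤ := by
  obtain ⟨e, he⟩ := exists_coords f hf
  have hall : ∀ x y : Ω, swap x y ∈ K := by
    intro x y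
    by_cases hfxy : f x = f y
    · exact hK (swap_mem hfxy)
    obtain ⟨σ, hσ1, hσ2⟩ := exists_perm_pair hxy hfxy
    set t := blockPerm e σ with ht
    have h1 : swap (t x₀) (t y₀) ∈ K := by
      rw [Equiv.swap_apply_apply]
      exact K.mul_mem (K.mul_mem (hK (blockPerm_mem he σ)) hs) (K.inv_mem (hK (blockPerm_mem he σ)))
    have hfx : f (t x₀) = f x := by rw [ht, blockPerm_fst he, hσ1]
    have hfy : f (t y₀) = f y := by rw [ht, blockPerm_fst he, hσ2]
    -- move the endpoints inside their blocks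
    have hne1 : t y₀ ≠ t x₀ := fun h => hfxy (by rw [← hfx, ← hfy, h])
    have h2 : swap x (t y₀) ∈ K := by
      have hk := hK (swap_mem hfx)
      have := K.mul_mem (K.mul_mem hk h1) (K.inv_mem hk)
      rw [← Equiv.swap_apply_apply] at this
      have hnx : t y₀ ≠ x := fun h => hfxy (by rw [← h, hfy])
      rwa [swap_apply_left, swap_apply_of_ne_of_ne hne1 hnx] at this
    have hk := hK (swap_mem hfy)
    have := K.mul_mem (K.mul_mem hk h2) (K.inv_mem hk)
    rw [← Equiv.swap_apply_apply] at this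
    have hnx : x ≠ t y₀ := fun h => hfxy (by rw [h, hfy])
    have hnx' : x ≠ y := fun h => hfxy (by rw [h])
    rwa [swap_apply_left, swap_apply_of_ne_of_ne hnx hnx'] at this
  rw [eq_top_iff, ← Equiv.Perm.closure_isSwap, Subgroup.closure_le]
  rintro _ ⟨x, y, _, rfl⟩
  exact hall x y

/-- `pstab f` is proper. -/
theorem pstab_ne_top (f : Ω → Fin b) (ha : 2 ≤ a) (hb : 2 ≤ b)
    (hf : ∀ i : Fin b, Nat.card {x : Ω // f x = i} = a) : pstab f ≠ ⊤ := by
  obtain ⟨e, he⟩ := exists_coords f hf
  intro htop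
  let i : Fin b := ⟨0, by omega⟩
  let j : Fin b := ⟨1, by omega⟩
  have hij : i ≠ j := by simp [i, j, Fin.ext_iff]
  let u : Fin a := ⟨0, by omega⟩
  let v : Fin a := ⟨1, by omega⟩
  have huv : u ≠ v := by simp [u, v, Fin.ext_iff]
  let x := e.symm (i, u)
  let x' := e.symm (i, v)
  let y := e.symm (j, u)
  have hfx : f x = i := by rw [← he]; simp [x]
  have hfx' : f x' = i := by rw [← he]; simp [x']
  have hfy : f y = j := by rw [← he]; simp [y]
  have hxx' : x ≠ x' := by
    intro h
    apply huv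
    have := e.symm.injective h
    simpa using this
  have hxy : x ≠ y := fun h => hij (by rw [← hfx, ← hfy, h])
  have hmem : swap x' y ∈ pstab f := by rw [htop]; trivial
  have h := (hmem x x').mp (by rw [hfx, hfx'])
  rw [swap_apply_of_ne_of_ne hxx' hxy, swap_apply_left, hfx, hfy] at h
  exact hij h

/-- The imprimitive wreath product is maximal in the symmetric group. -/
theorem isCoatom_pstab (f : Ω → Fin b) (ha : 2 ≤ a) (hb : 2 ≤ b)
    (hf : ∀ i : Fin b, Nat.card {x : Ω // f x = i} = a) : IsCoatom (pstab f) := by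
  refine ⟨pstab_ne_top f ha hb hf, fun K hK => ?_⟩
  obtain ⟨g, hgK, hg⟩ := SetLike.exists_of_lt hK
  -- find x ≠ y in a block with g x, g y in different blocks
  have hex : ∃ g ∈ K, ∃ x y : Ω, f x = f y ∧ f (g x) ≠ f (g y) := by
    rw [mem_pstab] at hg
    push Not at hg
    obtain ⟨x, y, h⟩ := hg
    rcases h with ⟨h1, h2⟩ | ⟨h1, h2⟩
    · exact ⟨g, hgK, x, y, h1, h2⟩
    · refine ⟨g⁻¹, K.inv_mem hgK, g x, g y, h2, ?_⟩
      simpa using h1
  obtain ⟨g, hgK, x, y, h1, h2⟩ := hex
  have hs : swap (g x) (g y) ∈ K := by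
    rw [Equiv.swap_apply_apply]
    exact K.mul_mem (K.mul_mem hgK (hK.le (swap_mem h1))) (K.inv_mem hgK)
  exact eq_top_of_swap_mem f hf K hK.le h2 hs

end Cfsg.Agent.Lib.PermWreath.Basic
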